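import Groth.Agent.H1WEt.Lift
import Groth.Agent.GeomSep.Basic
import Groth.Agent.S9624
import Mathlib.FieldTheory.SeparableClosure
import Mathlib.RingTheory.Trace.Basic
import Mathlib.LinearAlgebra.TensorProduct.RightExactness
import Mathlib.LinearAlgebra.Lagrange

/-!
# Base change of the maximal weakly étale subalgebra along a field extension
-/

set_option autoImplicit false
universe u
open scoped TensorProduct
open Polynomial

namespace Groth.Agent.H1WEt

variable {K : Type u} [Field K] {A : Type u} [CommRing A] [Algebra K A]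

theorem mem_max_iff {x : A} :
    x ∈ EtAlgD.maxWeaklyEtale K A ↔ ∃ f : K[X], f.Separable ∧ aeval x f = 0 := by
  refine ⟨fun hx => ?_, fun ⟨f, hf, h0⟩ => ?_⟩
  · haveI := weaklyEtale_maxWeaklyEtale (K := K) (A := A)
    refine ⟨_, separable_minpoly (K := K) (⟨x, hx⟩ : EtAlgD.maxWeaklyEtale K A), ?_⟩
    have h0 := congrArg (EtAlgD.maxWeaklyEtale K A).val
      (minpoly.aeval K (⟨x, hx⟩ : EtAlgD.maxWeaklyEtale K A))
    rw [← aeval_algHom_apply, map_zero] at h0
    exact h0
  · haveI := etale_adjoinRoot hf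
    exact range_le (AdjoinRoot.liftAlgHom f (Algebra.ofId K A) x h0)
      ⟨AdjoinRoot.root f, AdjoinRoot.lift_root h0⟩

theorem mem_max_of_isIdempotentElem {x : A} (hx : IsIdempotentElem x) :
    x ∈ EtAlgD.maxWeaklyEtale K A := by
  refine mem_max_iff.mpr ⟨(X - C 0) * (X - C 1), ?_, ?_⟩
  · refine separable_X_sub_C.mul separable_X_sub_C ?_
    exact pairwise_coprime_X_sub_C (s := (id : K → K)) Function.injective_id zero_ne_one
  · simp only [map_zero, sub_zero, map_one, map_mul, map_sub, aeval_X, mul_sub, mul_one]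
    rw [hx.eq, sub_self]

section functional

variable {Ω : Type u} [Field Ω] [Algebra K Ω]

theorem lid_map_aeval (φ : Ω →ₗ[K] K) (c : A) (r : Polynomial Ω) :
    TensorProduct.lid K A (φ.rTensor A (aeval ((1 : Ω) ⊗ₜ[K] c) r)) =
      ∑ i ∈ r.support, φ (r.coeff i) • c ^ i := by
  rw [aeval_eq_sum_range, ← Finset.sum_subset (s₁ := r.support)]
  · rw [map_sum, map_sum]
    refine Finset.sum_congr rfl fun i _ => ?_
    rw [Algebra.TensorProduct.tmul_pow, one_pow, TensorProduct.smul_tmul', smul_eq_mul, mul_one,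
      LinearMap.rTensor_tmul, TensorProduct.lid_tmul]
  · intro i hi
    exact Finset.mem_range.mpr (Nat.lt_succ_of_le (le_natDegree_of_mem_supp i hi))
  · intro i _ hi
    rw [notMem_support_iff.mp hi, zero_smul]

/-- An element of `A` which becomes weakly étale in `Ω ⊗ A` is weakly étale. -/
theorem mem_max_of_tmul {c : A} (hc : (1 : Ω) ⊗ₜ[K] c ∈ EtAlgD.maxWeaklyEtale Ω (Ω ⊗[K] A)) :
    c ∈ EtAlgD.maxWeaklyEtale K A := by
  classical
  obtain ⟨f, hf, hf0⟩ := mem_max_iff.mp hc
  have key : ∀ φ : Ω →ₗ[K] K, ∀ r : Polynomial Ω, aeval ((1 : Ω) ⊗ₜ[K] c) r = 0 →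
      aeval c (∑ i ∈ r.support, monomial i (φ (r.coeff i))) = 0 := fun φ r hr => by
    have h := lid_map_aeval φ c r
    rw [hr, map_zero, map_zero] at h
    rw [map_sum]
    simp only [aeval_monomial, ← Algebra.smul_def]
    exact h.symm
  have hcoeff : ∀ φ : Ω →ₗ[K] K, ∀ r : Polynomial Ω, ∀ n : ℕ,
      (∑ i ∈ r.support, monomial i (φ (r.coeff i))).coeff n = φ (r.coeff n) := fun φ r n => by
    simp only [finsetSum_coeff, coeff_monomial, Finset.sum_ite_eq']
    split_ifs with h
    · rfl
    · rw [notMem_support_iff.mp h, map_zero]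
  have halg : IsIntegral K c := by
    obtain ⟨φ, hφ⟩ := Module.Projective.exists_dual_eq_one K (leadingCoeff_ne_zero.mpr hf.ne_zero)
    refine (IsAlgebraic.isIntegral ⟨_, fun h => ?_, key φ f hf0⟩)
    have := congrArg (fun p : K[X] => p.coeff f.natDegree) h
    simp only [hcoeff, coeff_zero] at this
    exact one_ne_zero (hφ.symm.trans this)
  let g := minpoly K c
  have hg : g.Monic := minpoly.monic halg
  let G := g.map (algebraMap K Ω)
  have hG0 : aeval ((1 : Ω) ⊗ₜ[K] c) G = 0 := by
    rw [aeval_map_algebraMap]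
    show aeval ((Algebra.TensorProduct.includeRight : A →ₐ[K] Ω ⊗[K] A) c) g = 0
    rw [aeval_algHom_apply, minpoly.aeval, map_zero]
  have hr : aeval ((1 : Ω) ⊗ₜ[K] c) (f %ₘ G) = 0 := by
    rw [modByMonic_eq_sub_mul_div, map_sub, map_mul, hG0, zero_mul, hf0, sub_zero]
  have hdvd : G ∣ f := by
    rw [← modByMonic_eq_zero_iff_dvd (hg.map _)]
    refine Polynomial.ext fun n => ?_
    rw [coeff_zero]
    by_contra hne
    obtain ⟨φ, hφ⟩ := Module.Projective.exists_dual_ne_zero K hne
    have hz : (∑ i ∈ (f %ₘ G).support, monomial i (φ ((f %ₘ G).coeff i))) = 0 := by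
      by_contra h0
      have h1 := minpoly.degree_le_of_ne_zero K c h0 (key φ _ hr)
      refine absurd h1 (not_le.mpr ?_)
      refine lt_of_le_of_lt ?_ (by rw [← degree_map g (algebraMap K Ω)]; exact degree_modByMonic_lt f (hg.map _))
      refine (degree_le_iff_coeff_zero _ _).mpr fun m hm => ?_
      rw [hcoeff, coeff_eq_zero_of_degree_lt hm, map_zero]
    have := congrArg (fun p : K[X] => p.coeff n) hz
    simp only [hcoeff, coeff_zero] at this
    exact hφ this
  exact mem_max_iff.mpr ⟨g, separable_map (algebraMap K Ω) |>.mp (hf.of_dvd hdvd), minpoly.aeval K c⟩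

end functional

section trace

variable {Ω : Type u} [Field Ω] [Algebra K Ω] [IsAlgClosed Ω]
variable {E : Type u} [Field E] [Algebra K E] [FiniteDimensional K E] [Algebra.IsSeparable K E]

theorem sum_map_eq (z : E ⊗[K] A) :
    ∑ σ : E →ₐ[K] Ω, Algebra.TensorProduct.map σ (AlgHom.id K A) z =
      (1 : Ω) ⊗ₜ[K] TensorProduct.lid K A ((Algebra.trace K E).rTensor A z) := by
  induction z with
  | zero => simp
  | tmul m a =>
    simp only [Algebra.TensorProduct.map_tmul, AlgHom.id_apply, LinearMap.rTensor_tmul,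
      TensorProduct.lid_tmul, ← TensorProduct.sum_tmul]
    rw [← trace_eq_sum_embeddings Ω, Algebra.algebraMap_eq_smul_one, TensorProduct.smul_tmul]
  | add x y hx hy => simp [map_add, Finset.sum_add_distrib, hx, hy, TensorProduct.tmul_add]

/-- An idempotent of `E ⊗ A` is an `E`-combination of weakly étale elements of `A`. -/
theorem idempotent_mem_span (σ₀ : E →ₐ[K] Ω) {e : E ⊗[K] A} (he : IsIdempotentElem e) :
    e ∈ Submodule.span E
      ((fun a : A => (1 : E) ⊗ₜ[K] a) '' (EtAlgD.maxWeaklyEtale K A : Set A)) := by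
  classical
  let b := Module.Free.chooseBasis K E
  let d := (Algebra.traceForm K E).dualBasis (traceForm_nondegenerate K E) b
  let t : E → A := fun m => TensorProduct.lid K A ((Algebra.trace K E).rTensor A ((m ⊗ₜ[K] (1 : A)) * e))
  have hrec : ∀ z : E ⊗[K] A, z = ∑ i, d i • ((1 : E) ⊗ₜ[K]
      TensorProduct.lid K A ((Algebra.trace K E).rTensor A ((b i ⊗ₜ[K] (1 : A)) * z))) := by
    intro z
    induction z with
    | zero => simp
    | tmul m a =>
      simp only [Algebra.TensorProduct.tmul_mul_tmul, one_mul, LinearMap.rTensor_tmul,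
        TensorProduct.lid_tmul, TensorProduct.smul_tmul', smul_eq_mul, mul_one,
        TensorProduct.tmul_smul]
      rw [← TensorProduct.sum_tmul]
      congr 1
      refine (d.sum_repr m).symm.trans (Finset.sum_congr rfl fun i _ => ?_)
      rw [LinearMap.BilinForm.dualBasis_repr_apply, Algebra.traceForm_apply, mul_comm m (b i),
        mul_smul_comm, mul_one]
    | add x y hx hy =>
      simp only [mul_add, map_add, TensorProduct.tmul_add, smul_add, Finset.sum_add_distrib]
      rw [← hx, ← hy]
  rw [hrec e]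
  refine Submodule.sum_mem _ fun i _ => Submodule.smul_mem _ _ (Submodule.subset_span ⟨_, ?_, rfl⟩)
  refine mem_max_of_tmul (Ω := Ω) ?_
  rw [← sum_map_eq]
  refine Subalgebra.sum_mem _ fun σ _ => ?_
  rw [map_mul]
  refine mul_mem ?_ (mem_max_of_isIdempotentElem (he.map _))
  rw [Algebra.TensorProduct.map_tmul, map_one]
  exact Subalgebra.algebraMap_mem _ (σ (b i))

end trace

section sepClosed

variable {Ω : Type u} [Field Ω] [Algebra K Ω] [IsAlgClosed Ω]

theorem idempotent_descend (S : Type u) [Field S] [Algebra K S] [IsSepClosed S] [Algebra S Ω]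
    [IsScalarTower K S Ω] {e : Ω ⊗[K] A} (he : IsIdempotentElem e) :
    ∃ e₀ : S ⊗[K] A, IsIdempotentElem e₀ ∧
      e = Algebra.TensorProduct.map (IsScalarTower.toAlgHom K S Ω) (AlgHom.id K A) e₀ := by
  let φ : Ω ⊗[S] (S ⊗[K] A) ≃ₐ[Ω] Ω ⊗[K] A := Algebra.TensorProduct.cancelBaseChange K S Ω Ω A
  let ψ : (S ⊗[K] A) ⊗[S] Ω ≃ₐ[S] Ω ⊗[S] (S ⊗[K] A) := Algebra.TensorProduct.comm S _ _
  have hconn : ∀ (k' : Type u) [Field k'] [Algebra S k'],
      ConnectedSpace (PrimeSpectrum (k' ⊗[S] Ω)) := fun k' _ _ => GeomSep.connectedSpace_tensor k' Ω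
  obtain ⟨e₀, ⟨he₀, hmap⟩, -⟩ := S9624.result hconn (ψ.symm (φ.symm e)) ((he.map φ.symm).map ψ.symm)
  refine ⟨e₀, he₀, ?_⟩
  rw [← φ.apply_symm_apply e, ← ψ.apply_symm_apply (φ.symm e), ← hmap]
  clear hmap he₀
  induction e₀ with
  | zero => simp
  | tmul s a =>
    simp only [Algebra.TensorProduct.algebraMap_apply, Algebra.algebraMap_self, RingHom.id_apply,
      ψ, φ, Algebra.TensorProduct.comm_tmul, Algebra.TensorProduct.cancelBaseChange_tmul,
      Algebra.TensorProduct.map_tmul, AlgHom.id_apply, Algebra.smul_def, mul_one,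
      IsScalarTower.coe_toAlgHom]
    simp [Algebra.TensorProduct.algebraMap_apply]
  | add x y hx hy => simp only [map_add, hx, hy]

theorem idempotent_mem_span_algClosed {e : Ω ⊗[K] A} (he : IsIdempotentElem e) :
    e ∈ Submodule.span Ω
      ((fun a : A => (1 : Ω) ⊗ₜ[K] a) '' (EtAlgD.maxWeaklyEtale K A : Set A)) := by
  classical
  let S := separableClosure K Ω
  haveI : IsSepClosed S := (separableClosure.isSepClosure K Ω).1
  obtain ⟨e₀, he₀, hval⟩ := idempotent_descend S he
  obtain ⟨E, hE, e₁, -, he₁, -⟩ := GeomSep.exists_finite_intermediateField e₀ 0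
  haveI := hE
  haveI : Algebra.IsSeparable K E := Algebra.isSeparable_tower_bot_of_isSeparable K E S
  have hid : IsIdempotentElem e₁ := by
    refine GeomSep.map_intermediateField_injective E ?_
    rw [map_mul, he₁]
    exact he₀
  let σ₀ : E →ₐ[K] Ω := S.val.comp E.val
  have hmem := idempotent_mem_span σ₀ hid
  have he' : e = Algebra.TensorProduct.map σ₀ (AlgHom.id K A) e₁ := by
    rw [hval, ← he₁]
    clear he₁ hid hmem
    induction e₁ with
    | zero => simp
    | tmul m a => rfl
    | add x y hx hy => simp only [map_add, hx, hy]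
  rw [he']
  clear he' hid he₁
  induction hmem using Submodule.span_induction with
  | mem x hx =>
    obtain ⟨a, ha, rfl⟩ := hx
    refine Submodule.subset_span ⟨a, ha, ?_⟩
    simp
  | zero => simp
  | add x y _ _ hx hy => rw [map_add]; exact add_mem hx hy
  | smul c x _ hx =>
    have hs : ∀ z : E ⊗[K] A, Algebra.TensorProduct.map σ₀ (AlgHom.id K A) (c • z) =
        σ₀ c • Algebra.TensorProduct.map σ₀ (AlgHom.id K A) z := fun z => by
      induction z with
      | zero => simp
      | tmul m n => simp [TensorProduct.smul_tmul']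
      | add p q hp hq => simp only [smul_add, map_add, hp, hq]
    rw [hs]
    exact Submodule.smul_mem _ _ hx

theorem mem_max_le_span {y : Ω ⊗[K] A} (hy : y ∈ EtAlgD.maxWeaklyEtale Ω (Ω ⊗[K] A)) :
    y ∈ Submodule.span Ω
      ((fun a : A => (1 : Ω) ⊗ₜ[K] a) '' (EtAlgD.maxWeaklyEtale K A : Set A)) := by
  classical
  obtain ⟨f, hf, hf0⟩ := mem_max_iff.mp hy
  let s := f.roots.toFinset
  have hroots : f.roots = s.val := by
    rw [Multiset.toFinset_val, (nodup_roots hf).dedup]
  have hdvd : ∀ p : Polynomial Ω, (∀ r ∈ s, p.eval r = 0) → aeval y p = 0 := fun p hp => by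
    have h1 : (∏ r ∈ s, (X - C r)) ∣ p := by
      refine Finset.prod_dvd_of_coprime ?_ fun r hr => dvd_iff_isRoot.mpr (hp r hr)
      exact fun a _ b _ hab => pairwise_coprime_X_sub_C (s := id) Function.injective_id hab
    have h2 : f ∣ ∏ r ∈ s, (X - C r) := by
      have h3 := (IsAlgClosed.splits f).eq_prod_roots
      rw [hroots] at h3
      rw [h3, ← Finset.prod_eq_multiset_prod]
      exact (isUnit_C.mpr (isUnit_iff_ne_zero.mpr (leadingCoeff_ne_zero.mpr hf.ne_zero))).mul_left_dvd.mpr
        dvd_rfl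
    obtain ⟨q, hq⟩ := h2.trans h1
    rw [hq, map_mul, hf0, zero_mul]
  have hinj : Set.InjOn (id : Ω → Ω) s := Function.injective_id.injOn
  have hy1 : y = ∑ r ∈ s, r • aeval y (Lagrange.basis s id r) := by
    have h := hdvd (X - ∑ r ∈ s, C r * Lagrange.basis s id r) fun q hq => by
      rw [eval_sub, eval_X, eval_finsetSum, Finset.sum_eq_single_of_mem q hq, eval_mul, eval_C,
        show eval q (Lagrange.basis s id q) = 1 from
          Lagrange.eval_basis_self (v := (id : Ω → Ω)) hinj hq]
      · simp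
      · intro r hr hne
        rw [eval_mul, show eval q (Lagrange.basis s id r) = 0 from Lagrange.eval_basis_of_ne (v := (id : Ω → Ω)) hne hq,
          mul_zero]
    rw [map_sub, aeval_X, map_sum, sub_eq_zero] at h
    simp only [map_mul, aeval_C, ← Algebra.smul_def] at h
    exact h
  rw [hy1]
  refine Submodule.sum_mem _ fun r hr => Submodule.smul_mem _ _ (idempotent_mem_span_algClosed ?_)
  have h := hdvd (Lagrange.basis s id r * Lagrange.basis s id r - Lagrange.basis s id r) fun q hq => by
    rcases eq_or_ne r q with rfl | hne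
    · rw [eval_sub, eval_mul, show eval r (Lagrange.basis s id r) = 1 from
        Lagrange.eval_basis_self (v := (id : Ω → Ω)) hinj hq]
      simp
    · rw [eval_sub, eval_mul, show eval q (Lagrange.basis s id r) = 0 from
        Lagrange.eval_basis_of_ne (v := (id : Ω → Ω)) hne hq]
      simp
  rw [map_sub, map_mul, sub_eq_zero] at h
  exact h

end sepClosed

section descent

variable {L : Type u} [Field L] [Algebra K L]

theorem maxWeaklyEtale_baseChange :
    EtAlgD.maxWeaklyEtale L (L ⊗[K] A) =
      Algebra.adjoin L ((Algebra.TensorProduct.includeRight : A →ₐ[K] L ⊗[K] A) ''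
        (EtAlgD.maxWeaklyEtale K A : Set A)) := by
  refine le_antisymm (fun x hx => ?_) (Algebra.adjoin_le ?_)
  · let Ω := AlgebraicClosure L
    let j : L →ₐ[K] Ω := IsScalarTower.toAlgHom K L Ω
    let W : Submodule K A := Subalgebra.toSubmodule (EtAlgD.maxWeaklyEtale K A)
    let y := Algebra.TensorProduct.map j (AlgHom.id K A) x
    have hy : y ∈ EtAlgD.maxWeaklyEtale Ω (Ω ⊗[K] A) := by
      obtain ⟨f, hf, hf0⟩ := mem_max_iff.mp hx
      refine mem_max_iff.mpr ⟨f.map (algebraMap L Ω), hf.map, ?_⟩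
      rw [aeval_map_algebraMap]
      have h := congrArg (Algebra.TensorProduct.map (Algebra.ofId L Ω) (AlgHom.id K A)) hf0
      rw [← aeval_algHom_apply, map_zero] at h
      exact h
    have h0 : W.mkQ.lTensor Ω y = 0 := by
      have h2 := mem_max_le_span hy
      clear_value y
      clear hy
      induction h2 using Submodule.span_induction with
      | mem z hz =>
        obtain ⟨a, ha, rfl⟩ := hz
        rw [LinearMap.lTensor_tmul, show W.mkQ a = 0 from (Submodule.Quotient.mk_eq_zero W).mpr ha,
          TensorProduct.tmul_zero]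
      | zero => exact map_zero _
      | add a b _ _ ha hb => rw [map_add, ha, hb, add_zero]
      | smul c a _ ha =>
        have : ∀ z : Ω ⊗[K] A, W.mkQ.lTensor Ω (c • z) = c • W.mkQ.lTensor Ω z := fun z => by
          induction z with
          | zero => simp
          | tmul m n => simp [TensorProduct.smul_tmul']
          | add p q hp hq => simp [hp, hq]
        rw [this, ha, smul_zero]
    have h1 : j.toLinearMap.rTensor (A ⧸ W) (W.mkQ.lTensor L x) = 0 := by
      rw [← h0]
      clear h0 hy hx
      simp only [y]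
      clear y
      induction x with
      | zero => simp
      | tmul l a => simp
      | add p q hp hq => simp only [map_add, hp, hq]
    have h2 : W.mkQ.lTensor L x = 0 := by
      refine Module.Flat.rTensor_preserves_injective_linearMap (M := A ⧸ W) j.toLinearMap
        j.toRingHom.injective ?_
      rw [map_zero]
      exact h1
    obtain ⟨w, rfl⟩ := (lTensor_exact L (LinearMap.exact_subtype_mkQ W) W.mkQ_surjective _).mp h2
    clear h1 h0 hy hx y h2
    induction w with
    | zero => simp
    | tmul l a =>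
      have e : W.subtype.lTensor L (l ⊗ₜ[K] a) = algebraMap L (L ⊗[K] A) l * ((1 : L) ⊗ₜ[K] (a : A)) := by
        simp [Algebra.TensorProduct.algebraMap_apply]
      rw [e]
      exact mul_mem (Subalgebra.algebraMap_mem _ l) (Algebra.subset_adjoin ⟨a, a.2, rfl⟩)
    | add p q hp hq => rw [map_add]; exact add_mem hp hq
  · rintro - ⟨a, ha, rfl⟩
    obtain ⟨f, hf, hf0⟩ := mem_max_iff.mp ha
    refine mem_max_iff.mpr ⟨f.map (algebraMap K L), hf.map, ?_⟩
    rw [aeval_map_algebraMap, aeval_algHom_apply, hf0, map_zero]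

end descent

end Groth.Agent.H1WEt
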