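import Groth.Agent.WEtLib.OverField
import Groth.Prelude.Def_EtAlgD

/-!
# The maximal weakly étale subalgebra
-/

set_option autoImplicit false
universe u
open scoped TensorProduct

namespace Groth.Agent.H1WEt

variable {K : Type u} [Field K] {A : Type u} [CommRing A] [Algebra K A]

theorem weaklyEtale_of_algEquiv {R S : Type u} [CommRing R] [Algebra K R] [CommRing S] [Algebra K S]
    [Algebra.WeaklyEtale K R] (e : R ≃ₐ[K] S) : Algebra.WeaklyEtale K S :=
  S0736.result K S (Hensel.isIndEtale_of_algEquiv WEtLib.isIndEtale_of_weaklyEtale e)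

theorem weaklyEtale_range {R : Type u} [CommRing R] [Algebra K R] [Algebra.WeaklyEtale K R]
    (φ : R →ₐ[K] A) : Algebra.WeaklyEtale K φ.range :=
  haveI := WEtLib.weaklyEtale_quotient (K := K) (RingHom.ker φ)
  weaklyEtale_of_algEquiv (Ideal.quotientKerEquivRange φ)

theorem weaklyEtale_sup (S T : Subalgebra K A) [Algebra.WeaklyEtale K S] [Algebra.WeaklyEtale K T] :
    Algebra.WeaklyEtale K (S ⊔ T : Subalgebra K A) := by
  haveI : Algebra.WeaklyEtale K (S ⊗[K] T) := Algebra.WeaklyEtale.trans K S (S ⊗[K] T)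
  have h := weaklyEtale_range (Algebra.TensorProduct.productMap S.val T.val)
  rw [Algebra.TensorProduct.productMap_range, S.range_val, T.range_val] at h
  exact h

theorem weaklyEtale_bot : Algebra.WeaklyEtale K (⊥ : Subalgebra K A) := by
  have h := weaklyEtale_range (Algebra.ofId K A)
  rwa [← Algebra.range_ofId] 

theorem weaklyEtale_maxWeaklyEtale : Algebra.WeaklyEtale K ↥(EtAlgD.maxWeaklyEtale K A) := by
  classical
  let 𝒮 := {S : Subalgebra K A | Algebra.WeaklyEtale K S}
  have hdir : DirectedOn (· ≤ ·) 𝒮 := fun S hS T hT =>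
    haveI := Set.mem_setOf.mp hS
    haveI := Set.mem_setOf.mp hT
    ⟨S ⊔ T, weaklyEtale_sup S T, le_sup_left, le_sup_right⟩
  have hne : 𝒮.Nonempty := ⟨⊥, weaklyEtale_bot⟩
  haveI : Nonempty 𝒮 := hne.to_subtype
  refine S0736.result K _ (IndEtLib.isIndEtale_of_factor fun P _ _ _ φ => ?_)
  let ψ := (EtAlgD.maxWeaklyEtale K A).val.comp φ
  have hfg : ψ.range.FG := by
    haveI : Algebra.FiniteType K ψ.range :=
      Algebra.FiniteType.of_surjective ψ.rangeRestrict (AlgHom.rangeRestrict_surjective _)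
    exact ψ.range.fg_iff_finiteType.2 this
  obtain ⟨s, hs⟩ := hfg
  have hmem : ∀ x ∈ s, ∃ S : 𝒮, x ∈ (S : Subalgebra K A) := by
    intro x hx
    have hx' : x ∈ ψ.range := hs ▸ Algebra.subset_adjoin hx
    obtain ⟨y, rfl⟩ := hx'
    have h2 : (φ y : A) ∈ ⨆ S : 𝒮, (S : Subalgebra K A) := by
      rw [← sSup_eq_iSup']
      exact (φ y).2
    have h3 := SetLike.mem_coe.mpr h2
    rw [Subalgebra.coe_iSup_of_directed (directedOn_iff_directed.mp hdir)] at h3
    exact Set.mem_iUnion.mp h3
  choose f hf using hmem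
  have hz := Directed.finset_le (directedOn_iff_directed.mp hdir)
    (s.attach.image fun x : {x // x ∈ s} => f x.1 x.2)
  obtain ⟨S, hS⟩ := hz
  haveI : Algebra.WeaklyEtale K (S : Subalgebra K A) := S.2
  have hle : ψ.range ≤ (S : Subalgebra K A) := by
    rw [← hs, Algebra.adjoin_le_iff]
    exact fun x hx => hS _ (Finset.mem_image.mpr ⟨⟨x, hx⟩, Finset.mem_attach _ _, rfl⟩) (hf x hx)
  let φ' : P →ₐ[K] (S : Subalgebra K A) :=
    ψ.codRestrict _ fun y => hle ⟨y, rfl⟩
  have hfg' : φ'.range.FG := by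
    haveI : Algebra.FiniteType K φ'.range :=
      Algebra.FiniteType.of_surjective φ'.rangeRestrict (AlgHom.rangeRestrict_surjective _)
    exact φ'.range.fg_iff_finiteType.2 this
  exact ⟨φ'.range, inferInstance, inferInstance, WEtLib.etale_subalgebra_of_fg _ hfg',
    φ'.rangeRestrict,
    (Subalgebra.inclusion (le_sSup (Set.mem_setOf.mpr S.2) : (S : Subalgebra K A) ≤ _)).comp φ'.range.val,
    AlgHom.ext fun y => Subtype.ext rfl⟩

end Groth.Agent.H1WEt
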