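import Groth.Agent.H1WEt.Basic
import Mathlib.Dynamics.Newton
import Mathlib.RingTheory.Unramified.Field
import Mathlib.RingTheory.AdjoinRoot

/-!
# Lifting along nil ideals
-/

set_option autoImplicit false
universe u
open scoped TensorProduct
open Polynomial

namespace Groth.Agent.H1WEt

variable {K : Type u} [Field K] {A : Type u} [CommRing A] [Algebra K A]

theorem separable_minpoly {B : Type u} [CommRing B] [Algebra K B] [Algebra.WeaklyEtale K B] (x : B) :
    (minpoly K x).Separable := by
  classical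
  have hf0 : minpoly K x ≠ 0 := minpoly.ne_zero (WEtLib.isIntegral_of_weaklyEtale x)
  let s := (UniqueFactorizationMonoid.normalizedFactors (minpoly K x)).toFinset.filter Separable
  have hs : (∏ g ∈ s, g).Separable := by
    refine separable_prod' (fun g hg g' hg' hne => ?_) (fun g hg => (Finset.mem_filter.mp hg).2)
    have hg1 := Multiset.mem_toFinset.mp (Finset.mem_filter.mp hg).1
    have hg1' := Multiset.mem_toFinset.mp (Finset.mem_filter.mp hg').1
    have hi := UniqueFactorizationMonoid.irreducible_of_normalized_factor g hg1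
    have hi' := UniqueFactorizationMonoid.irreducible_of_normalized_factor g' hg1'
    refine (hi.coprime_iff_not_dvd).mpr fun h => hne ?_
    have h2 := normalize_eq_normalize_iff.mpr ⟨(hi.associated_of_dvd hi' h).dvd, (hi.associated_of_dvd hi' h).symm.dvd⟩
    rwa [UniqueFactorizationMonoid.normalize_normalized_factor g hg1,
      UniqueFactorizationMonoid.normalize_normalized_factor g' hg1'] at h2
  refine hs.of_dvd (minpoly.dvd K x ?_)
  have : IsReduced B := WEtLib.isReduced_of_forall_exists (WEtLib.exists_mul_eq (K := K))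
  refine IsReduced.eq_zero _ (nilpotent_iff_mem_prime.mpr fun P hP => ?_)
  haveI := hP
  rw [← Ideal.Quotient.eq_zero_iff_mem, ← Ideal.Quotient.mkₐ_eq_mk K, ← aeval_algHom_apply]
  have hsep : IsSeparable K (Ideal.Quotient.mkₐ K P x) := WEtLib.isSeparable_mk P x
  have hint := hsep.isIntegral
  have hmem : minpoly K (Ideal.Quotient.mkₐ K P x) ∈ s := by
    refine Finset.mem_filter.mpr ⟨Multiset.mem_toFinset.mpr ?_, hsep⟩
    refine (Polynomial.mem_normalizedFactors_iff hf0).mpr ⟨minpoly.irreducible hint, minpoly.monic hint,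
      minpoly.dvd K _ ?_⟩
    rw [aeval_algHom_apply, minpoly.aeval, map_zero]
  obtain ⟨c, hc⟩ := Finset.dvd_prod_of_mem (fun g : K[X] => g) hmem
  rw [hc, map_mul, minpoly.aeval, zero_mul]

theorem etale_adjoinRoot {f : K[X]} (hf : f.Separable) : Algebra.Etale K (AdjoinRoot f) := by
  haveI : Algebra.FinitePresentation K (AdjoinRoot f) := inferInstance
  haveI : Algebra.FormallyUnramified K (AdjoinRoot f) := by
    refine Algebra.FormallyUnramified.iff_comp_injective.mpr fun B _ _ I hI g₁ g₂ h => ?_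
    refine AdjoinRoot.algHom_ext ?_
    have hroot : ∀ g : AdjoinRoot f →ₐ[K] B, aeval (g (AdjoinRoot.root f)) f = 0 := fun g => by
      rw [aeval_algHom_apply, AdjoinRoot.aeval_eq, AdjoinRoot.mk_self, map_zero]
    obtain ⟨a, b, hab⟩ := hf
    have hu : IsUnit (aeval (g₁ (AdjoinRoot.root f)) (derivative f)) := by
      have := congrArg (aeval (g₁ (AdjoinRoot.root f))) hab
      rw [map_add, map_mul, map_mul, map_one, hroot, mul_zero, zero_add] at this
      exact IsUnit.of_mul_eq_one_right _ this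
    obtain ⟨r, -, huniq⟩ := existsUnique_nilpotent_sub_and_aeval_eq_zero
      (P := f) (x := g₁ (AdjoinRoot.root f)) (by rw [hroot]; exact IsNilpotent.zero) hu
    refine (huniq _ ⟨by simp, hroot g₁⟩).trans (huniq _ ⟨⟨2, ?_⟩, hroot g₂⟩).symm
    have hmem : g₁ (AdjoinRoot.root f) - g₂ (AdjoinRoot.root f) ∈ I :=
      Ideal.Quotient.eq.mp (DFunLike.congr_fun h (AdjoinRoot.root f))
    have := Ideal.pow_mem_pow hmem 2
    rwa [hI, Ideal.mem_bot] at this
  haveI : Algebra.FormallyEtale K (AdjoinRoot f) := Algebra.FormallyEtale.of_formallyUnramified_of_field K _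
  exact Algebra.Etale.mk inferInstance inferInstance

theorem range_le {R : Type u} [CommRing R] [Algebra K R] [Algebra.WeaklyEtale K R] (φ : R →ₐ[K] A) :
    φ.range ≤ EtAlgD.maxWeaklyEtale K A :=
  le_sSup (weaklyEtale_range φ)

theorem bijOn_mk : Set.BijOn (Ideal.Quotient.mkₐ K (nilradical A)) (EtAlgD.maxWeaklyEtale K A)
    (EtAlgD.maxWeaklyEtale K (A ⧸ nilradical A)) := by
  have hM := weaklyEtale_maxWeaklyEtale (K := K) (A := A)
  have hM' := weaklyEtale_maxWeaklyEtale (K := K) (A := A ⧸ nilradical A)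
  refine ⟨fun x hx => range_le ((Ideal.Quotient.mkₐ K _).comp (EtAlgD.maxWeaklyEtale K A).val) ⟨⟨x, hx⟩, rfl⟩,
    fun x hx y hy hxy => ?_, fun x hx => ?_⟩
  · haveI : IsReduced (EtAlgD.maxWeaklyEtale K A) :=
      WEtLib.isReduced_of_forall_exists (WEtLib.exists_mul_eq (K := K))
    have h : IsNilpotent (x - y) := mem_nilradical.mp (Ideal.Quotient.eq.mp hxy)
    have h2 : IsNilpotent ((⟨x, hx⟩ : EtAlgD.maxWeaklyEtale K A) - ⟨y, hy⟩) :=
      (IsNilpotent.map_iff (f := (EtAlgD.maxWeaklyEtale K A).val) Subtype.val_injective).mp h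
    exact congrArg Subtype.val (sub_eq_zero.mp h2.eq_zero)
  · let f := minpoly K (⟨x, hx⟩ : EtAlgD.maxWeaklyEtale K (A ⧸ nilradical A))
    have hf : f.Separable := separable_minpoly _
    have hfx : aeval x f = 0 := by
      have h0 := congrArg (EtAlgD.maxWeaklyEtale K (A ⧸ nilradical A)).val (minpoly.aeval K (⟨x, hx⟩ : EtAlgD.maxWeaklyEtale K (A ⧸ nilradical A)))
      rw [← aeval_algHom_apply, map_zero] at h0
      exact h0
    obtain ⟨a, rfl⟩ := Ideal.Quotient.mkₐ_surjective K _ x
    rw [aeval_algHom_apply] at hfx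
    have hn : IsNilpotent (aeval a f) :=
      mem_nilradical.mp (Ideal.Quotient.eq_zero_iff_mem.mp hfx)
    have hu : IsUnit (aeval a (derivative f)) := by
      obtain ⟨c, d, hcd⟩ := hf
      have h1 := congrArg (aeval a) hcd
      rw [map_add, map_mul, map_mul, map_one, ← eq_sub_iff_add_eq'] at h1
      exact isUnit_of_mul_isUnit_right (h1 ▸ IsNilpotent.isUnit_one_sub ((Commute.all _ _).isNilpotent_mul_left hn))
    obtain ⟨r, ⟨hr, hr0⟩, -⟩ := existsUnique_nilpotent_sub_and_aeval_eq_zero hn hu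
    refine ⟨r, ?_, ?_⟩
    · haveI := etale_adjoinRoot hf
      exact range_le (AdjoinRoot.liftAlgHom f (Algebra.ofId K A) r hr0) ⟨AdjoinRoot.root f, AdjoinRoot.lift_root hr0⟩
    · exact (Ideal.Quotient.eq.mpr (mem_nilradical.mpr hr)).symm

end Groth.Agent.H1WEt
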